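import Cfsg.Agent.GTwoRows.ON
import Cfsg.Agent.S1170
import Cfsg.Agent.Prune
set_option linter.all false
prune_inst 0x7f00000000000000000000000000000000000000000000000000000000000000000000000000000000000000000000000000000000000000000000000000000000000000000000000000000000000000003fffffffffffffffffffffffffffbeffbdffffffff

/-!
# Row `O'N`, with S1170 (helper9)
-/

set_option autoImplicit false

namespace Cfsg.Agent.GTwoRows

open Cfsg

universe u

theorem h1170 : ONQuot.H1170 := fun S A h1 h2 h3 => Cfsg.Agent.S1170.result S A h1 h2 h3

/-- **`O'N` has a `B₂`-group in `L₂`.** -/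
theorem lpExists_on {G : Type u} [Group G] (h : Spor.IsoON G) : LpExists 2 G InBTwo := ONRow.lpExists h1170 h

end Cfsg.Agent.GTwoRows
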