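import Mathlib
import Cfsg.Prelude.Def_SevenCases
import Cfsg.Agent.CpQuot.Congr
import Cfsg.Agent.OddTab.Base
import Cfsg.Agent.CTwoTab.Good
import Cfsg.Agent.SignalizersComponents.Components
import Cfsg.Agent.SignalizersComponents.ComponentImage
import Cfsg.Agent.TwoFusion.SLTwoFacts
import Cfsg.Agent.LFourB.FixQuat
import Cfsg.Agent.LieClassical.Order72
import Cfsg.Agent.Prune
set_option linter.all false
prune_inst 0x7f00000000000000000000000000000000000000000000000000000000000000000000000000000000000000000000000000000000000000000000000000000000000000000000000000000000000000003fffffffffffffffffffffffffffbeffbdffffffff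
open scoped Cfsg.Agent.FastGrp

/-!
# Rows "no `G₂`-group in `L₂°(G)`" (S1807, helper9): tools

* `CT C` : every component of `C / O(C)` is a `C₂`- or `T₂`-group (`CT.congr`, `ct_of_solvable`, `ct_of_family`);
* `Spc G` : `LpoAll 2 G (InCT 2)` (`G` is of `L₂`-special type), `NoG G` : `¬ LpoExists 2 G (InGp 2)`; `Spc.noG`;
* `spc_of_ct`, `spc_of_rank` (2-rank at most 2), `Spc.congr`, `ct_conj`;
* `inCT_psl`, `inCT_sl` : `L₂(q)` and `SL₂(q)`, `q > 3` odd, are `C₂`- or `T₂`-groups.
-/

set_option autoImplicit false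

namespace Cfsg.Agent.GTwoRows

open Subgroup Cfsg
open Cfsg.Agent.SignalizersComponents.Components
open Cfsg.Agent.SignalizersComponents.ComponentImage

universe u v w

/-- every component of `C / O(C)` is a `C₂`- or `T₂`-group -/
def CT (C : Type u) [Group C] : Prop :=
  ∀ K : Subgroup (C ⧸ pPrimeCore 2 C), IsComponent K → InCT 2 ↥K

/-- every element of `L₂°(G)` is a `C₂`- or `T₂`-group -/
def Spc (G : Type u) [Group G] : Prop := LpoAll 2 G (InCT 2)

/-- no element of `L₂°(G)` is a `G₂`-group -/
def NoG (G : Type u) [Group G] : Prop := ¬ LpoExists 2 G (InGp 2)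

theorem Spc.noG {G : Type u} [Group G] (h : Spc G) : NoG G := by
  rintro ⟨x, hx, hr, K, hK, -, -, -, h1, h2⟩
  rcases h x hx hr K hK with h3 | h3
  · exact h1 h3
  · exact h2 h3

theorem CT.congr {C : Type u} {D : Type v} [Group C] [Group D] (e : C ≃* D) (h : CT D) : CT C := by
  intro K hK
  let E : (C ⧸ pPrimeCore 2 C) ≃* (D ⧸ pPrimeCore 2 D) :=
    QuotientGroup.congr (pPrimeCore 2 C) (pPrimeCore 2 D) e (Lib.Cores.map_equiv_pPrimeCore e 2)
  have h1 := h (K.map E.toMonoidHom) (isComponent_map_equiv E hK)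
  exact (OddTab.inCT_iff (K.equivMapOfInjective E.toMonoidHom E.injective) 2).2 h1

/-- the centralizers of `x` and of its image under an isomorphism -/
noncomputable def centEquiv {G : Type u} {H : Type v} [Group G] [Group H] (e : G ≃* H) (x : G) :
    ↥(centralizer ({x} : Set G)) ≃* ↥(centralizer ({e x} : Set H)) :=
  ((centralizer ({x} : Set G)).equivMapOfInjective e.toMonoidHom e.injective).trans
    (MulEquiv.subgroupCongr (by
      ext y
      rw [mem_centralizer_singleton_iff]
      constructor
      · rintro ⟨z, hz, rfl⟩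
        rw [SetLike.mem_coe, mem_centralizer_singleton_iff] at hz
        change e z * e x = e x * e z
        rw [← map_mul, hz, map_mul]
      · intro hy
        refine ⟨e.symm y, ?_, e.apply_symm_apply y⟩
        rw [SetLike.mem_coe, mem_centralizer_singleton_iff]
        apply e.injective
        rw [map_mul, map_mul, e.apply_symm_apply, hy]))

theorem spc_of_ct {G : Type u} [Group G] (h : ∀ x : G, orderOf x = 2 → CT ↥(centralizer ({x} : Set G))) : Spc G :=
  fun x hx _ K hK => h x hx K hK

theorem Spc.congr {G : Type u} {H : Type v} [Group G] [Group H] (e : G ≃* H) (h : Spc H) : Spc G := by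
  intro x hx hr K hK
  have h1 : ∀ K : Subgroup (↥(centralizer ({x} : Set G)) ⧸ pPrimeCore 2 ↥(centralizer ({x} : Set G))),
      IsComponent K → InCT 2 ↥K := by
    refine CT.congr (centEquiv e x) ?_
    have h2 : orderOf (e x) = 2 := by rw [MulEquiv.orderOf_eq, hx]
    exact fun K hK => h (e x) h2 (CpQuot.Congr.prankAtLeast_of (centEquiv e x) hr) K hK
  exact h1 K hK

/-- conjugate elements -/
theorem ct_conj {G : Type u} [Group G] {x y : G} (hxy : ∃ g : G, g * x * g⁻¹ = y)
    (h : CT ↥(centralizer ({x} : Set G))) : CT ↥(centralizer ({y} : Set G)) := by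
  obtain ⟨g, rfl⟩ := hxy
  exact CT.congr (centEquiv (MulAut.conj g) x).symm h

/-! ### Components of a group covered by a family of normal subgroups -/

section family

variable {Q : Type u} [Group Q]

theorem component_le_derived {K : Subgroup Q} (hK : IsComponent K) (n : ℕ) : K ≤ derivedSeries Q n := by
  induction n with
  | zero => exact le_top
  | succ n ih =>
    rw [derivedSeries_succ, ← component_commutator_self hK]
    exact commutator_mono ih ih

/-- A component of a group with a family of normal subgroups, each solvable or quasisimple, whose join contains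
a term of the derived series, is one of the members of the family. -/
theorem exists_eq [Finite Q] {ι : Type w} (L : ι → Subgroup Q) (hn : ∀ i, (L i).Normal) {n : ℕ}
    (hs : derivedSeries Q n ≤ ⨆ i, L i)
    (hL : ∀ i, Group.IsSolvable ↥(L i) ∨ IsQuasisimple ↥(L i)) {K : Subgroup Q} (hK : IsComponent K) :
    ∃ i, IsQuasisimple ↥(L i) ∧ K = L i := by
  have h1 : K ≤ ⨆ i, L i := (component_le_derived hK n).trans hs
  have h2 : ∃ i, K ≤ L i := by
    by_contra h0
    push Not at h0
    have h3 : ∀ i, ⁅K, L i⁆ = ⊥ := fun i =>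
      ((component_le_or_commutator_eq_bot hK (hn i).isSubnormal).resolve_left (h0 i))
    have h4 : (⨆ i, L i) ≤ centralizer (K : Set Q) := by
      refine iSup_le fun i => ?_
      have h5 := h3 i
      rw [commutator_comm, commutator_eq_bot_iff_le_centralizer] at h5
      exact h5
    have h6 : ⁅K, K⁆ = ⊥ := by
      rw [commutator_eq_bot_iff_le_centralizer]
      exact h1.trans h4
    rw [component_commutator_self hK] at h6
    exact component_ne_bot hK h6
  obtain ⟨i, hi⟩ := h2
  have hK2 : IsComponent (K.subgroupOf (L i)) := isComponent_subgroupOf hi hK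
  rcases hL i with h | h
  · exfalso
    have h5 : Group.IsSolvable ↥(K.subgroupOf (L i)) := inferInstance
    exact quasisimple_not_isSolvable hK2.2 h5
  · refine ⟨i, h, le_antisymm hi ?_⟩
    rcases quasisimple_subnormal h hK2.1 with h5 | h5
    · rwa [subgroupOf_eq_top] at h5
    · exfalso
      apply quasisimple_not_isMulCommutative hK2.2
      refine ⟨⟨fun a b => ?_⟩⟩
      exact Subtype.ext (mem_center_iff.1 (h5 b.2) a)

end family

section C

variable {C : Type u} [Group C]

theorem ct_of_solvable (h : Group.IsSolvable C) : CT C := by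
  intro K hK
  exfalso
  have : Group.IsSolvable (C ⧸ pPrimeCore 2 C) := inferInstance
  exact quasisimple_not_isSolvable hK.2 inferInstance

variable [Finite C]

/-- the image of a quasisimple subgroup with centre a 2-group in `C / O(C)` is trivial or isomorphic to it -/
theorem map_equiv {L : Subgroup C} (hq : IsQuasisimple ↥L) (h2 : IsPGroup 2 ↥(center ↥L))
    (hb : L.map (QuotientGroup.mk' (pPrimeCore 2 C)) ≠ ⊥) :
    Nonempty (↥L ≃* ↥(L.map (QuotientGroup.mk' (pPrimeCore 2 C)))) := by
  let f : ↥L →* C ⧸ pPrimeCore 2 C := (QuotientGroup.mk' (pPrimeCore 2 C)).comp L.subtype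
  have hr : f.range = L.map (QuotientGroup.mk' (pPrimeCore 2 C)) := by
    rw [MonoidHom.range_comp, range_subtype]
  have hk : f.ker = ⊥ := by
    rcases quasisimple_normal hq f.ker inferInstance with h | h
    · exfalso
      apply hb
      rw [← hr, MonoidHom.range_eq_bot_iff]
      ext x
      have : x ∈ f.ker := by rw [h]; exact mem_top x
      exact this
    · rw [eq_bot_iff]
      intro x hx
      rw [mem_bot]
      have h3 : (x : C) ∈ pPrimeCore 2 C := by
        rw [MonoidHom.mem_ker] at hx
        exact (QuotientGroup.eq_one_iff (x : C)).1 hx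
      have h4 : (orderOf x).Coprime 2 := by
        have h5 := Lib.Cores.pPrimeCore_coprime (G := C) 2
        have h6 : orderOf (⟨(x : C), h3⟩ : ↥(pPrimeCore 2 C)) ∣ Nat.card ↥(pPrimeCore 2 C) := orderOf_dvd_natCard _
        rw [Subgroup.orderOf_mk, Subgroup.orderOf_coe] at h6
        exact Nat.Coprime.coprime_dvd_left h6 h5
      obtain ⟨k, hk⟩ := h2 ⟨x, h hx⟩
      have h7 : orderOf x ∣ 2 ^ k := by
        apply orderOf_dvd_of_pow_eq_one
        have := congrArg Subtype.val hk
        simpa using this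
      have h8 : orderOf x = 1 := Nat.eq_one_of_dvd_coprimes (Nat.Coprime.pow_right k h4) dvd_rfl h7
      exact orderOf_eq_one_iff.1 h8
  have hinj : Function.Injective f := (MonoidHom.ker_eq_bot_iff f).1 hk
  exact ⟨(MonoidHom.ofInjective hinj).trans (MulEquiv.subgroupCongr hr)⟩

/-- `C` has a family of normal subgroups, each solvable or quasisimple with centre a 2-group and a `C₂`- or `T₂`-group,
whose join contains a term of the derived series. -/
theorem ct_of_family {ι : Type w} (L : ι → Subgroup C) (hn : ∀ i, (L i).Normal) {n : ℕ}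
    (hs : derivedSeries C n ≤ ⨆ i, L i)
    (hL : ∀ i, Group.IsSolvable ↥(L i) ∨ (IsQuasisimple ↥(L i) ∧ IsPGroup 2 ↥(center ↥(L i)) ∧ InCT 2 ↥(L i))) :
    CT C := by
  intro K hK
  set π := QuotientGroup.mk' (pPrimeCore 2 C) with hπ
  have hsurj : Function.Surjective π := QuotientGroup.mk'_surjective _
  have hn' : ∀ i, ((L i).map π).Normal := fun i => (hn i).map π hsurj
  have hs' : derivedSeries (C ⧸ pPrimeCore 2 C) n ≤ ⨆ i, (L i).map π := by
    rw [← map_derivedSeries_eq hsurj, ← Subgroup.map_iSup]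
    exact Subgroup.map_mono hs
  have hL' : ∀ i, Group.IsSolvable ↥((L i).map π) ∨ IsQuasisimple ↥((L i).map π) := by
    intro i
    rcases hL i with h | ⟨h, h2, -⟩
    · left
      exact Group.isSolvable_of_surjective (f := π.subgroupMap (L i)) (π.subgroupMap_surjective (L i))
    · by_cases hb : (L i).map π = ⊥
      · left
        rw [hb]
        infer_instance
      · right
        obtain ⟨e⟩ := map_equiv h h2 hb
        exact isQuasisimple_of_mulEquiv e h
  obtain ⟨i, hi, rfl⟩ := exists_eq (fun i => (L i).map π) hn' hs' hL' hK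
  rcases hL i with h | ⟨h, h2, h3⟩
  · exfalso
    have h4 : Group.IsSolvable ↥((L i).map π) :=
      Group.isSolvable_of_surjective (f := π.subgroupMap (L i)) (π.subgroupMap_surjective (L i))
    exact quasisimple_not_isSolvable hi h4
  · obtain ⟨e⟩ := map_equiv h h2 (component_ne_bot hK)
    exact (OddTab.inCT_iff e 2).1 h3

/-- the same for one subgroup -/
theorem ct_of_one {L : Subgroup C} (hn : L.Normal) {n : ℕ} (hs : derivedSeries C n ≤ L)
    (hq : IsQuasisimple ↥L) (h2 : IsPGroup 2 ↥(center ↥L)) (h3 : InCT 2 ↥L) : CT C :=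
  ct_of_family (fun _ : Unit => L) (fun _ => hn) (n := n) (by rwa [iSup_const]) (fun _ => Or.inr ⟨hq, h2, h3⟩)

end C

/-! ### `L₂(q)` and `SL₂(q)` -/

section sl

variable {F : Type} [Field F] [Fintype F]

theorem two_ne (ho : Odd (Fintype.card F)) : (2 : F) ≠ 0 := by
  intro h
  apply CTwoTab.one_ne_neg_one ho
  have h1 : (1 : F) + 1 = 0 := by rw [one_add_one_eq_two]; exact h
  exact eq_neg_of_add_eq_zero_left h1

theorem isQuasisimple_sl (h3 : 3 < Fintype.card F) : IsQuasisimple (Matrix.SpecialLinearGroup (Fin 2) F) :=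
  ⟨Group.isPerfect_def.2 (TwoFusion.SLTwoFacts.commutator_eq_top h3), TwoFusion.SLTwoFacts.isSimpleGroup_psl h3⟩

theorem center_sl_two (ho : Odd (Fintype.card F)) :
    IsPGroup 2 ↥(center (Matrix.SpecialLinearGroup (Fin 2) F)) := by
  intro x
  refine ⟨1, ?_⟩
  apply Subtype.ext
  have h := (LFourA.AutTwo.mem_center_iff' (two_ne ho)).1 x.2
  rw [pow_one, Subgroup.coe_pow, Subgroup.coe_one]
  rcases h with h | h
  · rw [h, one_pow]
  · rw [h, neg_one_sq]

theorem not_comm_psl (h3 : 3 < Fintype.card F) : ¬ IsMulCommutative (Matrix.ProjectiveSpecialLinearGroup (Fin 2) F) := by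
  intro h
  have h1 := TwoFusion.SLTwoFacts.commutator_eq_top h3
  have h2 := Subgroup.map_commutator (⊤ : Subgroup (Matrix.SpecialLinearGroup (Fin 2) F)) ⊤
    (QuotientGroup.mk' (center (Matrix.SpecialLinearGroup (Fin 2) F)))
  have h4 : ⁅(⊤ : Subgroup (Matrix.SpecialLinearGroup (Fin 2) F)), ⊤⁆ = ⊤ := h1
  have h6 : (⊤ : Subgroup (Matrix.SpecialLinearGroup (Fin 2) F)).map
      (QuotientGroup.mk' (center (Matrix.SpecialLinearGroup (Fin 2) F))) = ⊤ :=
    Subgroup.map_top_of_surjective _ (QuotientGroup.mk'_surjective _)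
  rw [h4, h6] at h2
  have h5 : ⁅(⊤ : Subgroup (Matrix.SpecialLinearGroup (Fin 2) F ⧸ center (Matrix.SpecialLinearGroup (Fin 2) F))),
      (⊤ : Subgroup (Matrix.SpecialLinearGroup (Fin 2) F ⧸ center (Matrix.SpecialLinearGroup (Fin 2) F)))⁆ = ⊥ := by
    rw [commutator_eq_bot_iff_le_centralizer]
    intro x _
    rw [mem_centralizer_iff]
    intro y _
    exact h.is_comm.comm y x
  rw [h5] at h2
  have := TwoFusion.SLTwoFacts.isSimpleGroup_psl h3
  exact bot_ne_top (α := Subgroup (Matrix.ProjectiveSpecialLinearGroup (Fin 2) F)) h2.symm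

theorem known_psl (h3 : 3 < Fintype.card F) : IsKnownSimple' (Matrix.ProjectiveSpecialLinearGroup (Fin 2) F) := by
  refine Or.inr (Or.inr (Or.inl ⟨F, inferInstance, inferInstance, 2, le_rfl, fun _ => by omega, ⟨MulEquiv.refl _⟩⟩))

/-- **`L₂(q)` is a `C₂`- or a `T₂`-group.** -/
theorem inCT_psl (ho : Odd (Fintype.card F)) (h3 : 3 < Fintype.card F) :
    InCT 2 (Matrix.ProjectiveSpecialLinearGroup (Fin 2) F) := by
  have hs := TwoFusion.SLTwoFacts.isSimpleGroup_psl (F := F) h3
  have hna := not_comm_psl h3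
  have hq : IsQuasisimple (Matrix.ProjectiveSpecialLinearGroup (Fin 2) F) := CTwoTab.isQuasisimple_of_simple hna
  have hz : center (Matrix.ProjectiveSpecialLinearGroup (Fin 2) F) = ⊥ := CTwoTab.center_eq_bot_of_simple hna
  have hp : IsPGroup 2 ↥(center (Matrix.ProjectiveSpecialLinearGroup (Fin 2) F)) := by
    rw [hz]
    exact IsPGroup.of_bot
  have e : (Matrix.ProjectiveSpecialLinearGroup (Fin 2) F) ⧸ center (Matrix.ProjectiveSpecialLinearGroup (Fin 2) F) ≃*
      (Matrix.ProjectiveSpecialLinearGroup (Fin 2) F) :=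
    (QuotientGroup.quotientMulEquivOfEq hz).trans QuotientGroup.quotientBot
  by_cases hC : InC 2 (Matrix.ProjectiveSpecialLinearGroup (Fin 2) F)
  · exact Or.inl hC
  · right
    refine ⟨hq, hp, (CpQuot.Congr.isKnown_iff e).2 (known_psl h3), hC, Or.inl ⟨rfl, Or.inl ⟨F, inferInstance,
      inferInstance, ho, ?_, ⟨MulEquiv.refl _⟩⟩⟩⟩
    intro h9
    apply hC
    have h4 : IsCpSimple 2 (Matrix.ProjectiveSpecialLinearGroup (Fin 2) F) :=
      Or.inr (Or.inr (Or.inl ⟨rfl, Or.inl ⟨F, inferInstance, inferInstance, h9, ⟨MulEquiv.refl _⟩⟩⟩))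
    obtain ⟨h5, h6⟩ := CTwoTab.good_of_simple hna h4
    exact ⟨hq, hp, h5, h6⟩

/-- **`SL₂(q)` is a `T₂`-group.** -/
theorem inCT_sl (ho : Odd (Fintype.card F)) (h3 : 3 < Fintype.card F) :
    InCT 2 (Matrix.SpecialLinearGroup (Fin 2) F) := by
  by_cases hC : InC 2 (Matrix.SpecialLinearGroup (Fin 2) F)
  · exact Or.inl hC
  · right
    exact ⟨isQuasisimple_sl h3, center_sl_two ho, known_psl h3, hC, Or.inl ⟨rfl, Or.inr (Or.inr (Or.inl
      ⟨F, inferInstance, inferInstance, ho, ⟨MulEquiv.refl _⟩⟩))⟩⟩

/-- `SL₂(3)` is solvable -/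
theorem isSolvable_sl_three (h3 : Fintype.card F = 3) : Group.IsSolvable (Matrix.SpecialLinearGroup (Fin 2) F) :=
  Cfsg.Agent.LieClassical.Order72.isSolvable_of_card_dvd (by
    rw [TwoFusion.SLTwoFacts.card_eq_24 h3]; norm_num)

end sl

end Cfsg.Agent.GTwoRows
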